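import Groth.Agent.DTrunc.DerivedPushAdj

/-!
# An exact left adjoint induces a left adjoint on derived categories
-/

set_option autoImplicit false

universe w₁ w₂ v₁ v₂ u₁ u₂

open CategoryTheory CategoryTheory.Limits

namespace Groth.Agent.IndCoh

variable {A : Type u₁} [Category.{v₁} A] [Abelian A] [HasDerivedCategory.{w₁} A]
  {B : Type u₂} [Category.{v₂} B] [Abelian B] [IsGrothendieckAbelian.{v₂} B] [HasDerivedCategory.{w₂} B]

/-- An exact left adjoint into a Grothendieck abelian category induces a left adjoint on derived categories. -/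
theorem isLeftAdjoint_mapDerivedCategory (L : A ⥤ B) [L.Additive] [PreservesFiniteLimits L]
    [PreservesFiniteColimits L] [L.IsLeftAdjoint] : L.mapDerivedCategory.IsLeftAdjoint := by
  let adj := Adjunction.ofIsLeftAdjoint L
  haveI : L.rightAdjoint.Additive := adj.right_adjoint_additive
  let F := L.rightAdjoint.mapHomotopyCategory (ComplexShape.up ℤ) ⋙ DerivedCategory.Qh
  let W := HomotopyCategory.quasiIso B (ComplexShape.up ℤ)
  haveI : F.HasRightDerivedFunctor W := (DTrunc.RightDerived.hasEnough F).hasRightDerivedFunctor W
  obtain ⟨a⟩ := DTrunc.DerivedPushAdj.nonempty_adjunction (F.totalRightDerived DerivedCategory.Qh W)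
    (F.totalRightDerivedUnit DerivedCategory.Qh W) adj
  exact a.isLeftAdjoint

end Groth.Agent.IndCoh
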