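import Groth.Agent.IndCoh.Coprod
import Mathlib.CategoryTheory.Abelian.GrothendieckCategory.Basic
import Mathlib.CategoryTheory.Abelian.GrothendieckCategory.EnoughInjectives
import Mathlib.CategoryTheory.Abelian.Subcategory
import Mathlib.CategoryTheory.Abelian.Subobject
import Mathlib.CategoryTheory.Adjunction.AdjointFunctorTheorems
import Mathlib.CategoryTheory.Limits.Constructions.LimitsOfProductsAndEqualizers

/-!
# The ind-closure of a small property is reflective into its colimits
-/

set_option autoImplicit false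
set_option synthInstance.maxSize 4096

universe u v

open CategoryTheory CategoryTheory.Limits

namespace Groth.Agent.IndCoh

variable {B : Type v} [Category.{u} B] [Abelian B] [IsGrothendieckAbelian.{u} B]
  {Q : ObjectProperty B}

/-- `ind Q` is closed under coproducts when `Q` is closed under finite ones. -/
theorem isClosedUnderColimitsOfShape_ind
    (hQ : ∀ (T : Type u) [Finite T] (Y : T → B), (∀ i, Q (Y i)) → Q (∐ Y)) (T : Type u) :
    (ObjectProperty.ind.{u} Q).IsClosedUnderColimitsOfShape (Discrete T) := by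
  refine ⟨fun X ⟨pres, h⟩ => ?_⟩
  have h1 := ind_sigma (T := T) (fun s Y hY => hQ _ Y hY) (fun i => pres.diag.obj ⟨i⟩) fun i => h ⟨i⟩
  exact (ObjectProperty.ind.{u} Q).prop_of_iso
    ((HasColimit.isoOfNatIso Discrete.natIsoFunctor).symm ≪≫
      (colimit.isColimit _).coconePointUniqueUpToIso pres.isColimit) h1

/-- The separators of `ind Q`. -/
theorem isSeparating_ind {K : Type u} (k : K → (ObjectProperty.ind.{u} Q).FullSubcategory)
    (hk : ∀ M : B, Q M → ∃ i, Nonempty ((k i).obj ≅ M)) :
    (ObjectProperty.ofObj k).IsSeparating := by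
  intro M N f g h
  obtain ⟨J, _, _, pres, hp⟩ := M.property
  refine ObjectProperty.hom_ext _ (pres.isColimit.hom_ext fun j => ?_)
  obtain ⟨i, ⟨e⟩⟩ := hk _ (hp j)
  have := congrArg (fun φ => φ.hom)
    (h (k i) (ObjectProperty.ofObj_apply k i) (ObjectProperty.homMk (e.hom ≫ pres.ι.app j)))
  simp only [ObjectProperty.FullSubcategory.comp_hom, ObjectProperty.homMk_hom, Category.assoc,
    cancel_epi] at this
  exact this

variable [(ObjectProperty.ind.{u} Q).ContainsZero] [(ObjectProperty.ind.{u} Q).IsClosedUnderKernels]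
  [(ObjectProperty.ind.{u} Q).IsClosedUnderCokernels] [(ObjectProperty.ind.{u} Q).IsClosedUnderFiniteProducts]
  [PreservesFiniteLimits (ObjectProperty.ind.{u} Q).ι] [PreservesFiniteColimits (ObjectProperty.ind.{u} Q).ι]

/-- The inclusion of `ind Q` is a left adjoint. -/
theorem isLeftAdjoint_ι
    (hQ : ∀ (T : Type u) [Finite T] (Y : T → B), (∀ i, Q (Y i)) → Q (∐ Y))
    {K : Type u} (k : K → B) (hk : ∀ i, Q (k i)) (hk' : ∀ M, Q M → ∃ i, Nonempty (k i ≅ M)) :
    (ObjectProperty.ind.{u} Q).ι.IsLeftAdjoint := by
  let P := ObjectProperty.ind.{u} Q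
  haveI : ∀ T : Type u, P.IsClosedUnderColimitsOfShape (Discrete T) := isClosedUnderColimitsOfShape_ind hQ
  haveI : HasCoproducts.{u} P.FullSubcategory := fun T => inferInstance
  haveI hp : ∀ T : Type u, PreservesColimitsOfShape (Discrete T) P.ι := fun T => inferInstance
  haveI : HasCoequalizers P.FullSubcategory := inferInstance
  haveI : HasColimitsOfSize.{u, u} P.FullSubcategory := has_colimits_of_hasCoequalizers_and_coproducts
  haveI : PreservesColimitsOfSize.{u, u} P.ι := preservesColimits_of_preservesCoequalizers_and_coproducts _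
  let k' : K → P.FullSubcategory := fun i => ⟨k i, Q.le_ind _ (hk i)⟩
  have hsep : (ObjectProperty.ofObj k').IsSeparating := isSeparating_ind k' hk'
  haveI : HasSeparator P.FullSubcategory := ⟨⟨∐ k', (isSeparator_sigma _).2 hsep⟩⟩
  haveI : IsGrothendieckAbelian.{u} P.FullSubcategory :=
    { hasFilteredColimitsOfSize := ⟨fun _ _ _ => inferInstance⟩
      ab5OfSize := ⟨fun J _ _ => HasExactColimitsOfShape.domain_of_functor J P.ι⟩ }
  haveI : WellPowered.{u} P.FullSubcategory := IsGrothendieckAbelian.wellPowered P.FullSubcategory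
  haveI : WellPowered.{u} P.FullSubcategoryᵒᵖ := Abelian.wellPowered_opposite
  exact isLeftAdjoint_of_preservesColimits_of_isSeparating hsep P.ι

end Groth.Agent.IndCoh
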