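import Groth.Agent.LocPres.Ops
import Groth.Agent.ModFlat.Free
import Groth.Agent.ModAlg.FreeElem
import Groth.Agent.ModShf.GrothAb
import Mathlib.CategoryTheory.Abelian.Subobject

/-!
# Modules of finite presentation form an essentially small family
-/

set_option autoImplicit false
set_option linter.style.haveILetI false

universe u

open CategoryTheory CategoryTheory.Limits Opposite ModSite

namespace Groth.Agent.IndCoh

open Groth.Agent.ModFlat (rs freeOnEquiv freeOnEquiv_comp map_val_comp)
open Groth.Agent.PullFlat (appS appS_res)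
open Groth.Agent.LocPres (LocGen exists_cover_locGen appS_sum_smul)

variable {C : Type u} [SmallCategory C] {J : GrothendieckTopology C} (O : Sheaf J CommRingCat.{u})

/-- Countably many copies of every `j_{U!} O_U`. -/
noncomputable abbrev genObj : Mod O := ∐ fun x : C × ℕ => freeOn O x.1

variable {O}

/-- A module of finite type is a quotient of `genObj`. -/
theorem exists_epi_genObj (M : Mod O) [SheafOfModules.IsFiniteType (R := ringSh O) M] :
    ∃ p : genObj O ⟶ M, Epi p := by
  classical
  let val : ∀ x : C × ℕ, sect M x.1 := fun x =>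
    if h : Nonempty (LocGen M x.1) then
      if hk : x.2 < h.some.n then h.some.s ⟨x.2, hk⟩ else 0
    else 0
  let ι' : ∀ x : C × ℕ, freeOn O x.1 ⟶ genObj O := fun x => Sigma.ι (fun x : C × ℕ => freeOn O x.1) x
  let p : genObj O ⟶ M := Sigma.desc fun x => (freeOnEquiv O x.1 M).symm (val x)
  have hp : ∀ x, appS p x.1 (freeOnEquiv O x.1 (genObj O) (ι' x)) = val x := fun x => by
    refine (freeOnEquiv_comp (O := O) x.1 (ι' x) p).symm.trans ?_
    rw [Sigma.ι_desc, Equiv.apply_symm_apply]
  refine ⟨p, Groth.Agent.ModAlg.epi_of_locally p fun T y => ?_⟩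
  obtain ⟨S, hS, hS'⟩ := exists_cover_locGen M T.unop
  have hb : ∀ ⦃V : C⦄ (f : V ⟶ T.unop), S f → ∃ S' ∈ J V, ∀ ⦃W : C⦄ (g : W ⟶ V), S' g →
      ∃ z : sect (genObj O) W, appS p W z = rs M (g ≫ f) y := fun V f hf => by
    have h := hS' f hf
    obtain ⟨S', hS'₁, hS'₂⟩ := h.some.gen (𝟙 V) (rs M f y)
    refine ⟨S', hS'₁, fun W g hg => ?_⟩
    obtain ⟨c, hc⟩ := hS'₂ g hg
    refine ⟨∑ i, c i • rs (genObj O) (g ≫ 𝟙 V) (freeOnEquiv O V (genObj O) (ι' (V, i.1))), ?_⟩
    rw [appS_sum_smul]
    refine ((Finset.sum_congr rfl fun i _ => congrArg (c i • ·) ?_).trans hc).trans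
      (map_val_comp g f y).symm
    rw [appS_res]
    refine congrArg (rs M _) ((hp (V, i.1)).trans ?_)
    simp only [val, dif_pos h, dif_pos i.2, Fin.eta]
  exact Groth.Agent.PullFlat.exists_cover_bind
    (fun V f => ∃ z : sect (genObj O) V, appS p V z = rs M f y) hS hb

/-- A module of finite presentation is, up to isomorphism, the cokernel of a subobject of `genObj`. -/
theorem exists_iso_cokernel (M : Mod O) (hM : SheafOfModules.IsFinitePresentation (R := ringSh O) M) :
    ∃ S : Subobject (genObj O), Nonempty (cokernel S.arrow ≅ M) := by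
  haveI := hM
  haveI : SheafOfModules.IsFiniteType (R := ringSh O) M := inferInstance
  obtain ⟨p, hp⟩ := exists_epi_genObj M
  refine ⟨Subobject.mk (kernel.ι p), ⟨?_⟩⟩
  refine cokernel.mapIso _ (kernel.ι p) (Subobject.underlyingIso _) (Iso.refl _) ?_ ≪≫
    (colimit.isColimit _).coconePointUniqueUpToIso (Abelian.epiIsCokernelOfKernel _ (kernelIsKernel p))
  simp

/-- A small family containing every module of finite presentation up to isomorphism. -/
theorem exists_small_family : ∃ (K : Type u) (k : K → Mod O),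
    (∀ i, SheafOfModules.IsFinitePresentation (R := ringSh O) (k i)) ∧
      ∀ M : Mod O, SheafOfModules.IsFinitePresentation (R := ringSh O) M → ∃ i, Nonempty (k i ≅ M) := by
  haveI : WellPowered.{u} (Mod O) := IsGrothendieckAbelian.wellPowered (Mod O)
  let e := (equivShrink.{u} (Subobject (genObj O))).symm
  let k : Shrink.{u} (Subobject (genObj O)) → Mod O := fun i => cokernel (e i).arrow
  refine ⟨{i // SheafOfModules.IsFinitePresentation (R := ringSh O) (k i)}, fun i => k i.1, fun i => i.2,
    fun M hM => ?_⟩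
  obtain ⟨S, ⟨a⟩⟩ := exists_iso_cokernel M hM
  have h : Nonempty (k (e.symm S) ≅ M) := by
    change Nonempty (cokernel (e (e.symm S)).arrow ≅ M)
    rw [Equiv.apply_symm_apply]
    exact ⟨a⟩
  obtain ⟨b⟩ := h
  exact ⟨⟨e.symm S, ObjectProperty.prop_of_iso (P := SheafOfModules.isFinitePresentation (ringSh O)) b.symm hM⟩, ⟨b⟩⟩

end Groth.Agent.IndCoh
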