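import Groth.Agent.LocPres.Ops
import Mathlib.CategoryTheory.Limits.Shapes.Products

/-!
# Finite coproducts of modules of finite presentation
-/

set_option autoImplicit false
set_option linter.style.haveILetI false

universe u

open CategoryTheory CategoryTheory.Limits Opposite ModSite

namespace Groth.Agent.IndCoh

open Groth.Agent.ModFlat (rs map_val_smul map_val_comp map_ring_comp)
open Groth.Agent.PullFlat (appS appS_res appS_comp appS_zero exists_cover_bind)
open Groth.Agent.LocPres (LocPres exists_cover_locPres isFinitePresentation_of_cover appS_sum_smul rs_sum_smul)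

variable {C : Type u} [SmallCategory C] {J : GrothendieckTopology C} {O : Sheaf J CommRingCat.{u}}

theorem appS_id {F : Mod O} {U : C} (x : sect F U) : appS (𝟙 F) U x = x := rfl

theorem appS_add {F G : Mod O} (φ ψ : F ⟶ G) {U : C} (x : sect F U) :
    appS (φ + ψ) U x = appS φ U x + appS ψ U x := rfl

theorem sect_eq_zero_of_isZero {F : Mod O} (h : IsZero F) {U : C} (x : sect F U) : x = 0 := by
  rw [← appS_id x, h.eq_of_src (𝟙 F) 0, appS_zero]

/-- The zero module is finitely presented. -/
theorem isFinitePresentation_of_isZero {F : Mod O} (h : IsZero F) :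
    SheafOfModules.IsFinitePresentation (R := ringSh O) F :=
  isFinitePresentation_of_cover fun U => ⟨⊤, J.top_mem U, fun V _ _ =>
    ⟨⟨0, 0, Fin.elim0, Fin.elim0, fun k => k.elim0,
      fun {T} _ x => ⟨⊤, J.top_mem T, fun W g _ => ⟨Fin.elim0,
        (sect_eq_zero_of_isZero h _).trans (sect_eq_zero_of_isZero h (rs F g x)).symm⟩⟩,
      fun {T} _ _ _ => ⟨⊤, J.top_mem T, fun W _ _ => ⟨Fin.elim0, fun i => i.elim0⟩⟩⟩⟩⟩

variable {F G : Mod O}

theorem biprod_decomp {U : C} (x : sect (F ⊞ G) U) :
    appS biprod.inl U (appS biprod.fst U x) + appS biprod.inr U (appS biprod.snd U x) = x := by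
  rw [← appS_comp, ← appS_comp, ← appS_add, biprod.total, appS_id]

/-- A presentation of a biproduct. -/
theorem nonempty_locPres_biprod {X : C} (P : LocPres F X) (Q : LocPres G X) :
    Nonempty (LocPres (F ⊞ G) X) := by
  let e : Fin (P.n + Q.n) → sect (F ⊞ G) X :=
    Fin.append (fun i => appS biprod.inl X (P.s i)) (fun i => appS biprod.inr X (Q.s i))
  let r : Fin (P.m + Q.m) → Fin (P.n + Q.n) → O.obj.obj (op X) :=
    Fin.append (fun k => Fin.append (P.r k) 0) (fun k => Fin.append 0 (Q.r k))
  refine ⟨⟨P.n + Q.n, P.m + Q.m, e, r, fun k => ?_, fun {T} a x => ?_, fun {T} a c hc => ?_⟩⟩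
  · rw [Fin.sum_univ_add]
    refine Fin.addCases (fun k => ?_) (fun k => ?_) k
    · simp only [e, r, Fin.append_left, Fin.append_right, Pi.zero_apply, zero_smul, Finset.sum_const_zero, add_zero]
      rw [← appS_sum_smul, P.rel, map_zero]
    · simp only [e, r, Fin.append_left, Fin.append_right, Pi.zero_apply, zero_smul, Finset.sum_const_zero, zero_add]
      rw [← appS_sum_smul, Q.rel, map_zero]
  · obtain ⟨S₁, hS₁, hS₁'⟩ := P.gen a (appS biprod.fst T x)
    obtain ⟨S₂, hS₂, hS₂'⟩ := Q.gen a (appS biprod.snd T x)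
    refine ⟨S₁ ⊓ S₂, J.intersection_covering hS₁ hS₂, fun V g hg => ?_⟩
    obtain ⟨c, hc⟩ := hS₁' g hg.1
    obtain ⟨d, hd⟩ := hS₂' g hg.2
    refine ⟨Fin.append c d, ?_⟩
    rw [Fin.sum_univ_add]
    simp only [e, Fin.append_left, Fin.append_right, ← appS_res, ← appS_sum_smul, hc, hd]
    rw [appS_res, appS_res, appS_res, appS_res, ← map_add, biprod_decomp]
  · have h1 : ∑ i, c (Fin.castAdd Q.n i) • rs F a (P.s i) = 0 := by
      have h := congrArg (appS biprod.fst T) hc
      rw [appS_sum_smul, map_zero, Fin.sum_univ_add] at h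
      simp only [e, Fin.append_left, Fin.append_right, appS_res, ← appS_comp, biprod.inl_fst, biprod.inr_fst,
        appS_id, appS_zero, map_zero, smul_zero, Finset.sum_const_zero, add_zero] at h
      exact h
    have h2 : ∑ i, c (Fin.natAdd P.n i) • rs G a (Q.s i) = 0 := by
      have h := congrArg (appS biprod.snd T) hc
      rw [appS_sum_smul, map_zero, Fin.sum_univ_add] at h
      simp only [e, Fin.append_left, Fin.append_right, appS_res, ← appS_comp, biprod.inl_snd, biprod.inr_snd,
        appS_id, appS_zero, map_zero, smul_zero, Finset.sum_const_zero, zero_add] at h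
      exact h
    obtain ⟨S₁, hS₁, hS₁'⟩ := P.relgen a _ h1
    obtain ⟨S₂, hS₂, hS₂'⟩ := Q.relgen a _ h2
    refine ⟨S₁ ⊓ S₂, J.intersection_covering hS₁ hS₂, fun V g hg => ?_⟩
    obtain ⟨b, hb⟩ := hS₁' g hg.1
    obtain ⟨d, hd⟩ := hS₂' g hg.2
    refine ⟨Fin.append b d, fun i => ?_⟩
    rw [Fin.sum_univ_add]
    refine Fin.addCases (fun i => ?_) (fun i => ?_) i
    · simp only [r, Fin.append_left, Fin.append_right, Pi.zero_apply, map_zero, mul_zero, Finset.sum_const_zero,
        add_zero]
      exact hb i
    · simp only [r, Fin.append_left, Fin.append_right, Pi.zero_apply, map_zero, mul_zero, Finset.sum_const_zero,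
        zero_add]
      exact hd i

/-- A biproduct of modules of finite presentation. -/
theorem isFinitePresentation_biprod (hF : SheafOfModules.IsFinitePresentation (R := ringSh O) F)
    (hG : SheafOfModules.IsFinitePresentation (R := ringSh O) G) :
    SheafOfModules.IsFinitePresentation (R := ringSh O) (F ⊞ G) := by
  refine isFinitePresentation_of_cover fun U => ?_
  obtain ⟨S₁, hS₁, hS₁'⟩ := exists_cover_locPres F U
  obtain ⟨S₂, hS₂, hS₂'⟩ := exists_cover_locPres G U
  refine ⟨S₁ ⊓ S₂, J.intersection_covering hS₁ hS₂, fun V g hg => ?_⟩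
  obtain ⟨P⟩ := hS₁' g hg.1
  obtain ⟨Q⟩ := hS₂' g hg.2
  exact nonempty_locPres_biprod P Q

/-- The decomposition of a coproduct over `Option`. -/
noncomputable def optionIso {T : Type u} (Y : Option T → Mod O) :
    (∐ Y) ≅ Y none ⊞ ∐ fun i => Y (some i) where
  hom := Sigma.desc fun o => match o with
    | none => biprod.inl
    | some i => Sigma.ι (fun i => Y (some i)) i ≫ biprod.inr
  inv := biprod.desc (Sigma.ι Y none) (Sigma.desc fun i => Sigma.ι Y (some i))
  hom_inv_id := Sigma.hom_ext _ _ fun o => by
    cases o <;> simp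
  inv_hom_id := by
    refine biprod.hom_ext' _ _ (by simp) (Sigma.hom_ext _ _ fun i => by simp)

theorem isFinitePresentation_of_iso (e : F ≅ G) (hF : SheafOfModules.IsFinitePresentation (R := ringSh O) F) :
    SheafOfModules.IsFinitePresentation (R := ringSh O) G :=
  ObjectProperty.prop_of_iso (P := SheafOfModules.isFinitePresentation (ringSh O)) e hF

/-- A finite coproduct of modules of finite presentation. -/
theorem isFinitePresentation_sigma (T : Type u) [Finite T] :
    ∀ Y : T → Mod O, (∀ i, SheafOfModules.IsFinitePresentation (R := ringSh O) (Y i)) →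
      SheafOfModules.IsFinitePresentation (R := ringSh O) (∐ Y) := by
  refine Finite.induction_empty_option (P := fun T : Type u => ∀ Y : T → Mod O,
    (∀ i, SheafOfModules.IsFinitePresentation (R := ringSh O) (Y i)) →
      SheafOfModules.IsFinitePresentation (R := ringSh O) (∐ Y)) ?_ ?_ ?_ T
  · intro A B e ih Y hY
    exact isFinitePresentation_of_iso (Sigma.whiskerEquiv e (fun _ => Iso.refl _)) (ih (fun i => Y (e i)) fun i => hY _)
  · intro Y _
    refine isFinitePresentation_of_isZero ((IsZero.iff_id_eq_zero _).2 (Sigma.hom_ext _ _ fun i => ?_))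
    exact i.elim
  · intro A _ ih Y hY
    exact isFinitePresentation_of_iso (optionIso Y).symm
      (isFinitePresentation_biprod (hY none) (ih _ fun i => hY _))

end Groth.Agent.IndCoh
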