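import Mathlib.CategoryTheory.ObjectProperty.Ind
import Mathlib.CategoryTheory.Limits.Shapes.Products
import Mathlib.CategoryTheory.Limits.Shapes.FiniteProducts

/-!
# Coproducts of filtered colimits are filtered colimits of finite coproducts
-/

set_option autoImplicit false

universe w v u

open CategoryTheory CategoryTheory.Limits

namespace Groth.Agent.IndCoh

variable {C : Type u} [Category.{v} C] {T : Type w} (J : T → Type w) [∀ i, SmallCategory (J i)]

/-- Finitely many of the indices. -/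
structure FinSel : Type w where
  /-- the components in play -/
  s : Finset T
  /-- their indices -/
  j : ∀ i : {i // i ∈ s}, J i.1

variable {J}

/-- Morphisms of finite selections. -/
@[ext]
structure FinSelHom (a b : FinSel J) : Type w where
  sub : a.s ⊆ b.s
  f : ∀ i : {i // i ∈ a.s}, a.j i ⟶ b.j ⟨i.1, sub i.2⟩

instance : SmallCategory (FinSel J) where
  Hom := FinSelHom
  id a := ⟨subset_refl _, fun i => 𝟙 (a.j i)⟩
  comp f g := ⟨f.sub.trans g.sub, fun i => f.f i ≫ g.f ⟨i.1, f.sub i.2⟩⟩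
  id_comp f := FinSelHom.ext (funext fun i => Category.id_comp _)
  comp_id f := FinSelHom.ext (funext fun i => Category.comp_id _)
  assoc f g h := FinSelHom.ext (funext fun i => Category.assoc _ _ _)

instance [∀ i, IsFiltered (J i)] : IsFiltered (FinSel J) := by
  classical
  refine { nonempty := ⟨⟨∅, fun i => absurd i.2 (Finset.notMem_empty _)⟩⟩
           cocone_objs := fun a b => ?_
           cocone_maps := fun a b f g => ?_ }
  · have key : ∀ i : {i // i ∈ a.s ∪ b.s}, ∃ k : J i.1, (∀ h : i.1 ∈ a.s, Nonempty (a.j ⟨i.1, h⟩ ⟶ k)) ∧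
        ∀ h : i.1 ∈ b.s, Nonempty (b.j ⟨i.1, h⟩ ⟶ k) := fun i => by
      by_cases ha : i.1 ∈ a.s <;> by_cases hb : i.1 ∈ b.s
      · exact ⟨IsFiltered.max (a.j ⟨i.1, ha⟩) (b.j ⟨i.1, hb⟩), fun _ => ⟨IsFiltered.leftToMax _ _⟩,
          fun _ => ⟨IsFiltered.rightToMax _ _⟩⟩
      · exact ⟨a.j ⟨i.1, ha⟩, fun _ => ⟨𝟙 _⟩, fun h => absurd h hb⟩
      · exact ⟨b.j ⟨i.1, hb⟩, fun h => absurd h ha, fun _ => ⟨𝟙 _⟩⟩
      · exact ((Finset.mem_union.1 i.2).elim ha hb).elim
    choose k hk using key
    exact ⟨⟨a.s ∪ b.s, k⟩,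
      ⟨Finset.subset_union_left, fun i => ((hk ⟨i.1, Finset.mem_union_left _ i.2⟩).1 i.2).some⟩,
      ⟨Finset.subset_union_right, fun i => ((hk ⟨i.1, Finset.mem_union_right _ i.2⟩).2 i.2).some⟩, trivial⟩
  · have key : ∀ i : {i // i ∈ b.s}, ∃ (k : J i.1) (h : b.j i ⟶ k), ∀ ha : i.1 ∈ a.s,
        FinSelHom.f f ⟨i.1, ha⟩ ≫ h = FinSelHom.f g ⟨i.1, ha⟩ ≫ h := fun i => by
      by_cases ha : i.1 ∈ a.s
      · exact ⟨_, IsFiltered.coeqHom (FinSelHom.f f ⟨i.1, ha⟩) (FinSelHom.f g ⟨i.1, ha⟩), fun _ => IsFiltered.coeq_condition _ _⟩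
      · exact ⟨_, 𝟙 _, fun h => absurd h ha⟩
    choose k h hk using key
    exact ⟨⟨b.s, k⟩, ⟨subset_refl _, h⟩, FinSelHom.ext (funext fun i => hk ⟨i.1, FinSelHom.sub f i.2⟩ i.2)⟩

/-- The selection of one index. -/
def single (i : T) (j : J i) : FinSel J :=
  ⟨{i}, fun x => (Finset.mem_singleton.1 x.2).symm ▸ j⟩

theorem single_j (i : T) (j : J i) (h : i ∈ ({i} : Finset T)) : (single i j).j ⟨i, h⟩ = j := rfl

variable [∀ s : Finset T, HasCoproductsOfShape {i // i ∈ s} C] [HasCoproductsOfShape T C]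
  (D : ∀ i, J i ⥤ C)

/-- The finite coproducts of the selected objects. -/
noncomputable def selDiag : FinSel J ⥤ C where
  obj a := ∐ fun i : {i // i ∈ a.s} => (D i.1).obj (a.j i)
  map {a b} φ := Sigma.desc fun i =>
    (D i.1).map (FinSelHom.f φ i) ≫ Sigma.ι (fun i : {i // i ∈ b.s} => (D i.1).obj (b.j i)) ⟨i.1, FinSelHom.sub φ i.2⟩
  map_id a := Sigma.hom_ext _ _ fun i => by
    rw [Sigma.ι_desc, Category.comp_id]
    exact (congrArg (· ≫ _) ((D i.1).map_id _)).trans (Category.id_comp _)
  map_comp {a b c} φ ψ := Sigma.hom_ext _ _ fun i => by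
    rw [Sigma.ι_desc, Sigma.ι_desc_assoc, Category.assoc, Sigma.ι_desc]
    exact (congrArg (· ≫ _) ((D i.1).map_comp _ _)).trans (Category.assoc _ _ _)

variable {D} {X : T → C} (c : ∀ i, D i ⟶ (Functor.const (J i)).obj (X i))

/-- The cocone to the coproduct. -/
noncomputable def selCocone : selDiag D ⟶ (Functor.const (FinSel J)).obj (∐ X) where
  app a := Sigma.desc fun i => (c i.1).app (a.j i) ≫ Sigma.ι X i.1
  naturality a b φ := Sigma.hom_ext _ _ fun i => by
    simp only [selDiag, Functor.const_obj_map, Category.comp_id, Sigma.ι_desc_assoc, Category.assoc, Sigma.ι_desc]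
    rw [← Category.assoc, (c i.1).naturality (FinSelHom.f φ i)]
    simp

theorem ι_selCocone (a : FinSel J) (i : {i // i ∈ a.s}) :
    Sigma.ι (fun i : {i // i ∈ a.s} => (D i.1).obj (a.j i)) i ≫ (selCocone c).app a =
      (c i.1).app (a.j i) ≫ Sigma.ι X i.1 := Sigma.ι_desc _ _

/-- The coproduct is the colimit of the finite coproducts. -/
noncomputable def isColimitSel (hc : ∀ i, IsColimit (Cocone.mk (X i) (c i))) :
    IsColimit (Cocone.mk (∐ X) (selCocone c)) where
  desc s := Sigma.desc fun i => (hc i).desc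
    (Cocone.mk s.pt
      { app := fun j => Sigma.ι (fun x : {x // x ∈ (single i j).s} => (D x.1).obj ((single i j).j x))
          ⟨i, Finset.mem_singleton_self i⟩ ≫ s.ι.app (single i j)
        naturality := fun j j' φ => by
          let ψ : single i j ⟶ single i j' := ⟨subset_refl _, fun x => by
            obtain ⟨x, hx⟩ := x
            obtain rfl := Finset.mem_singleton.1 hx
            exact φ⟩
          refine Eq.trans ?_ (Category.comp_id _).symm
          refine Eq.trans ?_ (congrArg (Sigma.ι (fun x : {x // x ∈ (single i j).s} => (D x.1).obj ((single i j).j x))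
            ⟨i, Finset.mem_singleton_self i⟩ ≫ ·) (s.w ψ))
          have hψ : Sigma.ι (fun x : {x // x ∈ (single i j).s} => (D x.1).obj ((single i j).j x))
              ⟨i, Finset.mem_singleton_self i⟩ ≫ (selDiag D).map ψ = (D i).map φ ≫
              Sigma.ι (fun x : {x // x ∈ (single i j').s} => (D x.1).obj ((single i j').j x))
                ⟨i, Finset.mem_singleton_self i⟩ := Sigma.ι_desc _ _
          exact (Category.assoc _ _ _).symm.trans ((congrArg (· ≫ s.ι.app (single i j'))
            hψ.symm).trans (Category.assoc _ _ _)) })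
  fac s a := Sigma.hom_ext _ _ fun i => by
    refine (Category.assoc _ _ _).symm.trans ?_
    refine (congrArg (· ≫ _) (ι_selCocone c a i)).trans ?_
    rw [Category.assoc, Sigma.ι_desc]
    refine ((hc i.1).fac _ (a.j i)).trans ?_
    let ψ : single i.1 (a.j i) ⟶ a := ⟨Finset.singleton_subset_iff.2 i.2, fun x => by
      obtain ⟨x, hx⟩ := x
      obtain rfl := Finset.mem_singleton.1 hx
      exact 𝟙 _⟩
    refine ((congrArg (Sigma.ι _ _ ≫ ·) (s.w ψ)).symm.trans ((Category.assoc _ _ _).symm.trans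
      (congrArg (· ≫ s.ι.app a) ?_)))
    refine (Sigma.ι_desc _ _).trans ?_
    exact (congrArg (· ≫ _) ((D i.1).map_id _)).trans (Category.id_comp _)
  uniq s m hm := Sigma.hom_ext _ _ fun i => by
    rw [Sigma.ι_desc]
    refine (hc i).hom_ext fun j => ?_
    rw [(hc i).fac]
    refine Eq.trans ?_ (congrArg (Sigma.ι (fun x : {x // x ∈ (single i j).s} => (D x.1).obj ((single i j).j x))
      ⟨i, Finset.mem_singleton_self i⟩ ≫ ·) (hm (single i j)))
    exact ((Category.assoc _ _ _).symm.trans ((congrArg (· ≫ m)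
      (ι_selCocone c (single i j) ⟨i, Finset.mem_singleton_self i⟩)).trans (Category.assoc _ _ _))).symm

/-- `ind` of a property closed under finite coproducts is closed under coproducts. -/
theorem ind_sigma {Q : ObjectProperty C}
    (hQ : ∀ (s : Finset T) (Y : {i // i ∈ s} → C), (∀ i, Q (Y i)) → Q (∐ Y))
    (X : T → C) (hX : ∀ i, ObjectProperty.ind.{w} Q (X i)) : ObjectProperty.ind.{w} Q (∐ X) := by
  choose J hJ hJf pres hp using hX
  letI := hJ
  haveI := hJf
  exact ⟨FinSel J, inferInstance, inferInstance,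
    { diag := selDiag (fun i => (pres i).diag)
      ι := selCocone (fun i => (pres i).ι)
      isColimit := isColimitSel _ fun i => (pres i).isColimit },
    fun a => hQ a.s _ fun i => hp i.1 (a.j i)⟩

end Groth.Agent.IndCoh
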